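import Groth.Agent.InjQCoh7.Embed
import Groth.Agent.ExtShX.Flasque
import Groth.Agent.ExtShX.Tilde
import Groth.Agent.RGLib.Lim8Exact
import Groth.Agent.GrpSchLib.FieldSmooth
import Mathlib

/-!
# Injective modules on locally Noetherian schemes: stalks and flasqueness
-/

set_option autoImplicit false
set_option linter.style.haveILetI false
set_option backward.isDefEq.respectTransparency false
set_option backward.isDefEq.respectTransparency.types false

universe u

open CategoryTheory CategoryTheory.Limits AlgebraicGeometry TopologicalSpace Opposite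

namespace Groth.Agent.InjX

open Groth.Agent.ExtShX

variable {X : Scheme.{u}}

theorem mono_freeOnToUnit (U : X.Opens) : Mono (freeOnToUnit U) := by
  refine HomShX.mono_of_stalk _ fun x => ?_
  by_cases hx : x ∈ Set.range U.ι.base
  · obtain ⟨v, rfl⟩ := hx
    haveI := isIso_restrict_freeOnToUnit U
    have hb := ConcreteCategory.bijective_of_isIso
      ((DerSch.stalkFunctor _ v).map ((Scheme.Modules.restrictFunctor U.ι).map (freeOnToUnit U)))
    exact KFlatLib.injective_stalk_of_restrict U.ι _ v hb.1
  · haveI : Subsingleton ((freeOn U).presheaf.stalk x) :=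
      ModuleCat.subsingleton_of_isZero (KFlatLib.isZero_stalk_lsh U.ι x hx _)
    exact Function.injective_of_subsingleton _

/-- An injective module is flasque. -/
theorem surjective_map_of_injective (I : X.Modules) [Injective I] (U V : X.Opens) (h : U ≤ V) :
    Function.Surjective (I.presheaf.map (homOfLE h).op) :=
  surjective_map_of_extend U V h fun a => by
    haveI := mono_freeOnToUnit U
    exact ⟨Injective.factorThru a (freeOnToUnit U), Injective.comp_factorThru _ _⟩

/-- A module over a Noetherian ring whose localizations at all primes are injective is injective. -/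
theorem baer_of_localizations {A : Type u} [CommRing A] [IsNoetherianRing A] {M : Type u}
    [AddCommGroup M] [Module A M]
    (h : ∀ (p : Ideal A) [p.IsPrime], ∃ (B : Type u) (_ : CommRing B) (_ : Algebra A B)
      (_ : IsLocalization p.primeCompl B) (N : Type u) (_ : AddCommGroup N) (_ : Module A N)
      (_ : Module B N) (_ : IsScalarTower A B N) (f : M →ₗ[A] N) (_ : IsLocalizedModule p.primeCompl f),
      Module.Injective B N) :
    Module.Baer A M := by
  intro J φ
  let C : Ideal A :=
    { carrier := {c | ∃ m : M, ∀ a : J, c • φ a = (a : A) • m}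
      add_mem' := by
        rintro c d ⟨m, hm⟩ ⟨n, hn⟩
        exact ⟨m + n, fun a => by rw [add_smul, hm a, hn a, smul_add]⟩
      zero_mem' := ⟨0, fun a => by rw [zero_smul, smul_zero]⟩
      smul_mem' := by
        rintro r c ⟨m, hm⟩
        exact ⟨r • m, fun a => by rw [smul_eq_mul, mul_smul, hm a, smul_comm]⟩ }
  have hC : C = ⊤ := by
    by_contra hne
    obtain ⟨p, hp, hle⟩ := C.exists_le_maximal hne
    haveI := hp.isPrime
    obtain ⟨B, _, _, _, N, _, _, _, _, f, _, hinj⟩ := h p
    haveI := hinj
    let i := Submodule.toLocalized' B p.primeCompl (Algebra.linearMap A B) J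
    have hu : ∀ s : p.primeCompl, IsUnit (algebraMap A (Module.End A N) s) := fun s =>
      IsLocalizedModule.map_units f s
    let ψ := IsLocalizedModule.lift p.primeCompl i (f ∘ₗ φ) hu
    let ψ' := LinearMap.extendScalarsOfIsLocalization p.primeCompl B ψ
    obtain ⟨g, hg⟩ := LC.exists_extension
      (Submodule.localized' B p.primeCompl (Algebra.linearMap A B) J).subtype Subtype.val_injective ψ'
    have key : ∀ a : J, f (φ a) = (a : A) • g 1 := fun a => by
      have h1 : ψ (i a) = f (φ a) := IsLocalizedModule.lift_apply p.primeCompl i (f ∘ₗ φ) hu a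
      rw [← h1]
      refine (LinearMap.congr_fun hg (i a)).symm.trans ?_
      show g (algebraMap A B (a : A)) = _
      rw [← IsScalarTower.algebraMap_smul B (a : A) (g 1), ← map_smul, smul_eq_mul, mul_one]
    obtain ⟨⟨m, s⟩, hm⟩ := IsLocalizedModule.surj p.primeCompl f (g 1)
    obtain ⟨r, a, ha⟩ := Submodule.fg_iff_exists_fin_generating_family.1
      (Module.Finite.fg_top (R := A) (M := J))
    have hloc : ∀ a : J, ∃ t : p.primeCompl, (t : A) • ((s : A) • φ a) = (t : A) • ((a : A) • m) := fun a => by
      have h2 : f ((s : A) • φ a) = f ((a : A) • m) := by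
        rw [map_smul, map_smul, key, smul_comm]
        exact congrArg ((a : A) • ·) hm
      obtain ⟨t, ht⟩ := IsLocalizedModule.exists_of_eq (S := p.primeCompl) h2
      exact ⟨t, ht⟩
    choose t ht using fun j => hloc (a j)
    let T : A := ∏ j, (t j : A)
    have hT : ∀ b : J, T • ((s : A) • φ b) = T • ((b : A) • m) := by
      intro b
      have hb : b ∈ Submodule.span A (Set.range a) := ha ▸ Submodule.mem_top
      induction hb using Submodule.span_induction with
      | mem z hz =>
        obtain ⟨j, rfl⟩ := hz
        obtain ⟨q, hq⟩ : (t j : A) ∣ T := Finset.dvd_prod_of_mem _ (Finset.mem_univ j)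
        rw [hq, mul_comm, mul_smul, ht, ← mul_smul]
      | zero => simp
      | add y z _ _ hy hz => simp only [map_add, smul_add, hy, hz, Submodule.coe_add, add_smul]
      | smul c y _ hy =>
        have h3 := congrArg (c • ·) hy
        simpa only [map_smul, Submodule.coe_smul, smul_eq_mul, mul_smul, smul_comm c] using h3
    have hmem : T * (s : A) ∈ C := ⟨T • m, fun b => by rw [mul_smul, hT, smul_comm]⟩
    exact (p.primeCompl.mul_mem (prod_mem fun j _ => (t j).2) s.2) (hle hmem)
  obtain ⟨m, hm⟩ : (1 : A) ∈ C := hC ▸ Submodule.mem_top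
  exact ⟨LinearMap.toSpanSingleton A M m, fun x hx => by
    rw [LinearMap.toSpanSingleton_apply, ← hm ⟨x, hx⟩, one_smul]⟩

theorem injective_of_stalks [IsLocallyNoetherian X] {F : X.Modules} (hF : Coh.IsQCoh F)
    (h : ∀ x : X, Module.Injective (X.presheaf.stalk x) (F.presheaf.stalk x)) : Injective F := by
  refine InjQCoh7.injective_of_affine F hF fun x => ?_
  obtain ⟨_, ⟨U, hU, rfl⟩, hxU, -⟩ :=
    X.isBasis_affineOpens.exists_subset_of_mem_open (Set.mem_univ x) isOpen_univ
  have hU' : IsAffineOpen U := hU
  refine ⟨U, hU', hxU, ?_⟩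
  haveI := IsLocallyNoetherian.component_noetherian (X := X) ⟨U, hU'⟩
  refine (baer_of_localizations fun p hp => ?_).injective
  obtain ⟨⟨y, hy⟩, hy'⟩ : ∃ y : U, hU'.primeIdealOf y = ⟨p, hp⟩ := by
    obtain ⟨z, hz⟩ : ∃ z, hU'.fromSpec.base ⟨p, hp⟩ = z := ⟨_, rfl⟩
    have hzU : z ∈ U := by
      have : z ∈ Set.range hU'.fromSpec.base := ⟨_, hz⟩
      rwa [hU'.range_fromSpec] at this
    refine ⟨⟨z, hzU⟩, hU'.fromSpec.isOpenEmbedding.injective ?_⟩
    rw [hU'.fromSpec_primeIdealOf, hz]
  letI := QCoh.stalkAlg hy
  letI := QCoh.stalkModule F hy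
  haveI := QCoh.isScalarTower_stalk F hy
  have e : (hU'.primeIdealOf ⟨y, hy⟩).asIdeal = p := by rw [hy']
  subst e
  exact ⟨X.presheaf.stalk y, inferInstance, inferInstance, QCoh.isLocalization_stalk' hU' hy,
    F.presheaf.stalk y, inferInstance, inferInstance, inferInstance, inferInstance,
    QCoh.germLin F hy, QCoh.isLocalizedModule_germLin hF hU' hy, h y⟩

theorem stalk_injective [IsLocallyNoetherian X] (I : X.Modules) [Injective I] (x : X) :
    Module.Injective (X.presheaf.stalk x) (I.presheaf.stalk x) :=
  (baer_stalk x).injective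

/-- Push-forward along the flat morphism from the spectrum of a local ring preserves injectives. -/
theorem injective_pushforward_fromSpecStalk (x : X) (M : (Spec (X.presheaf.stalk x)).Modules) [Injective M] :
    Injective ((Scheme.Modules.pushforward (X.fromSpecStalk x)).obj M) := by
  haveI : Flat (X.fromSpecStalk x) := GrpSchLib.flat_fromSpecStalk x
  haveI := RGLib.Lim8.preservesFiniteLimits_pullback (X.fromSpecStalk x)
  exact (Scheme.Modules.pullbackPushforwardAdjunction (X.fromSpecStalk x)).map_injective M ‹_›

theorem quasiCompact_fromSpecStalk [IsLocallyNoetherian X] (x : X) : QuasiCompact (X.fromSpecStalk x) := by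
  obtain ⟨_, ⟨U, hU, rfl⟩, hxU, -⟩ :=
    X.isBasis_affineOpens.exists_subset_of_mem_open (Set.mem_univ x) isOpen_univ
  have hU' : IsAffineOpen U := hU
  haveI : QuasiCompact hU'.fromSpec := by
    rw [← hU'.fromSpec.liftCoborder_ι]
    infer_instance
  rw [← hU'.fromSpecStalk_eq_fromSpecStalk hxU, IsAffineOpen.fromSpecStalk]
  infer_instance

theorem quasiSeparated_fromSpecStalk (x : X) : QuasiSeparated (X.fromSpecStalk x) :=
  QuasiSeparated.of_comp (X.fromSpecStalk x) (terminal.from X)

end Groth.Agent.InjX
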